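import Mathlib
import Cfsg.Agent.TcChain36.Out.Fi23.Tree
import Cfsg.Agent.TcChain36.Out.Fi23.Alpha

set_option autoImplicit false
set_option maxRecDepth 1000000
set_option linter.all false

namespace Cfsg.Agent.TcChain36.Out.Fi23

open Cfsg.Agent.Lib.OutTree36

open Cfsg.Agent.Lib.TcBits Cfsg.Agent.Lib.TcPres Cfsg.Agent.Lib.PresChain36
open Cfsg.Agent.TcData.Fi23.I31671 Cfsg.Agent.TcData.Fi23 Cfsg.Agent.TcChain36.Fi23

/-- The outer automorphism group. -/
theorem out_eq : Nat.card (Cfsg.Out Gp) = 1 :=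
  final_one H hs' htrans hwa hiz rfl (by norm_num) (by norm_num) hM hP hL hb hC rfl rfl hgen halpha

end Cfsg.Agent.TcChain36.Out.Fi23
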